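import Mathlib

/-!
# Finite checks in the alternating group of degree five
-/

set_option autoImplicit false
set_option Elab.async false

namespace Cfsg.Agent.StdG24.F

open Subgroup

namespace A5

abbrev Alt5 := alternatingGroup (Fin 5)

set_option maxRecDepth 100000 in
theorem f1 : ∀ a : Alt5, a ^ 4 = 1 → a * a = 1 := by decide +kernel

set_option maxRecDepth 100000 in
theorem f2 : ∀ a : Alt5, a ≠ 1 → a * a = 1 → ∀ c : Alt5, c * a = a * c → c * c = 1 := by decide +kernel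

set_option maxRecDepth 100000 in
theorem f3 : ∀ a : Alt5, a ≠ 1 → a * a = 1 → Fintype.card {c : Alt5 // c * a = a * c} = 4 := by
  decide +kernel

set_option maxRecDepth 100000 in
theorem f4 : ∀ a : Alt5, a ≠ 1 → a * a = 1 → ∀ c : Alt5, c * c = 1 → c ≠ 1 → ∃ g : Alt5, g * a * g⁻¹ = c := by
  decide +kernel

set_option maxRecDepth 100000 in
theorem f5 : ∀ a : Alt5, a ≠ 1 → a * a = 1 → ∀ c : Alt5, c * c = 1 → c ≠ 1 → c * a = a * c → c ≠ a →
    ∃ g : Alt5, g ^ 3 = 1 ∧ g * a * g⁻¹ = c ∧ g * c * g⁻¹ = a * c := by decide +kernel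

/-- an involution -/
def f6a0 : Alt5 :=
  ⟨Equiv.swap 0 1 * Equiv.swap 2 3, by rw [Equiv.Perm.mem_alternatingGroup]; decide +kernel⟩

set_option maxRecDepth 100000 in
theorem f6_one : Fintype.card {c : Alt5 // c ≠ 1 ∧ c * c = 1 ∧ (f6a0 * c) ^ 15 = 1} = 13 := by decide +kernel

theorem f6_conj_pow (g a c : Alt5) (h : (a * c) ^ 15 = 1) : (g * a * g⁻¹ * (g * c * g⁻¹)) ^ 15 = 1 := by
  have e : g * a * g⁻¹ * (g * c * g⁻¹) = g * (a * c) * g⁻¹ := by group
  rw [e, conj_pow, h, mul_one, mul_inv_cancel]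

theorem f6_conj {a b g : Alt5} (hg : g * a * g⁻¹ = b) {c : Alt5} (h : c ≠ 1 ∧ c * c = 1 ∧ (a * c) ^ 15 = 1) :
    g * c * g⁻¹ ≠ 1 ∧ g * c * g⁻¹ * (g * c * g⁻¹) = 1 ∧ (b * (g * c * g⁻¹)) ^ 15 = 1 := by
  refine ⟨fun h1 => h.1 ?_, ?_, ?_⟩
  · calc c = g⁻¹ * (g * c * g⁻¹) * g := by group
      _ = 1 := by rw [h1]; group
  · calc g * c * g⁻¹ * (g * c * g⁻¹) = g * (c * c) * g⁻¹ := by group
      _ = 1 := by rw [h.2.1]; group
  · rw [← hg]
    exact f6_conj_pow g a c h.2.2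

theorem f6 : ∀ a : Alt5, a ≠ 1 → a * a = 1 →
    Fintype.card {c : Alt5 // c ≠ 1 ∧ c * c = 1 ∧ (a * c) ^ 15 = 1} = 13 := by
  intro a ha haa
  obtain ⟨g, hg⟩ := f4 a ha haa f6a0 (by decide +kernel) (by decide +kernel)
  have hg' : g⁻¹ * f6a0 * g⁻¹⁻¹ = a := by rw [← hg]; group
  rw [← f6_one]
  exact Fintype.card_congr
    { toFun := fun c => ⟨g * c * g⁻¹, f6_conj hg c.2⟩
      invFun := fun c => ⟨g⁻¹ * c * g⁻¹⁻¹, f6_conj hg' c.2⟩
      left_inv := fun c => Subtype.ext (by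
        show g⁻¹ * (g * (c : Alt5) * g⁻¹) * g⁻¹⁻¹ = c
        group)
      right_inv := fun c => Subtype.ext (by
        show g * (g⁻¹ * (c : Alt5) * g⁻¹⁻¹) * g⁻¹ = c
        group) }

set_option maxRecDepth 100000 in
theorem f7 : ∀ w : Alt5, w ^ 5 = 1 → w ≠ 1 → ∀ c : Alt5, c * w = w * c → c ^ 5 = 1 := by decide +kernel

set_option maxRecDepth 100000 in
theorem f8 : ∀ a : Alt5, a ^ 30 = 1 := by decide +kernel

set_option maxRecDepth 100000 in
theorem f9 : Fintype.card {c : Alt5 // c ≠ 1 ∧ c * c = 1} = 15 := by decide +kernel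

set_option maxRecDepth 100000 in
theorem f10 : Fintype.card Alt5 = 60 := by decide +kernel

end A5

end Cfsg.Agent.StdG24.F
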